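import Groth.Agent.QC70.Ideal
import Groth.Agent.SubMod72.Main

/-! Restriction and tilde versus finite type. -/

set_option autoImplicit false
set_option backward.isDefEq.respectTransparency.types false

noncomputable section

universe u

open CategoryTheory Limits AlgebraicGeometry TopologicalSpace Opposite
open Groth.Agent.QC70

namespace Groth.Agent.QCRes72

variable {X Y : Scheme.{u}} (f : X ⟶ Y) [IsOpenImmersion f] (M : Y.Modules)

/-- Sections of a restriction as a semilinear map. -/
def restrictSecₛₗ (W : X.Opens) :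
    Γ(M, f ''ᵁ W) →ₛₗ[(f.appIso W).hom.hom] Γ(M.restrict f, W) where
  toFun x := (M.restrictAppIso f W).inv x
  map_add' _ _ := rfl
  map_smul' r x := by
    show r • x = (f.appIso W).inv ((f.appIso W).hom r) • x
    rw [Iso.hom_inv_id_apply]

theorem finite_sections_restrict [M.IsQuasicoherent] [M.IsFiniteType] {W : X.Opens}
    (hW : IsAffineOpen W) : Module.Finite Γ(X, W) Γ(M.restrict f, W) :=
  have := finite_sections_of_isFiniteType M (hW.image_of_isOpenImmersion f)
  Module.Finite.of_surjective (restrictSecₛₗ f M W) fun x => ⟨x, rfl⟩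

theorem isFiniteType_restrict [M.IsQuasicoherent] [M.IsFiniteType] :
    (M.restrict f).IsFiniteType :=
  isFiniteType_of_finite_sections _ (fun W : X.affineOpens => W.1) (iSup_affineOpens_eq_top X)
    (fun W => W.2) fun W => finite_sections_restrict f M W.2

variable {R : CommRingCat.{u}}

/-- `T → Γ(tilde T, ⊤)` as a semilinear map. -/
def toTopₛₗ (T : ModuleCat.{u} R) :
    T →ₛₗ[(Scheme.ΓSpecIso R).inv.hom] Γ(tilde T, ⊤) where
  toFun x := toTop T x
  map_add' := map_add _
  map_smul' r x := by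
    rw [toTop_smul, resO_self]

/-- `Γ(tilde T, ⊤) → T` as a semilinear map. -/
def ofTopₛₗ (T : ModuleCat.{u} R) :
    Γ(tilde T, ⊤) →ₛₗ[(Scheme.ΓSpecIso R).hom.hom] T where
  toFun x := (tilde.isoTop T).inv x
  map_add' := map_add _
  map_smul' r x := by
    obtain ⟨y, rfl⟩ := (ConcreteCategory.bijective_of_isIso (tilde.toOpen T ⊤)).2 x
    have h : r • (show Γ(tilde T, ⊤) from tilde.toOpen T ⊤ y) =
        tilde.toOpen T ⊤ ((Scheme.ΓSpecIso R).hom r • y) := by
      show r • toTop T y = toTop T _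
      rw [toTop_smul, resO_self, Iso.hom_inv_id_apply]
    show (tilde.isoTop T).inv (r • (show Γ(tilde T, ⊤) from tilde.toOpen T ⊤ y)) =
      (Scheme.ΓSpecIso R).hom r • (tilde.isoTop T).inv (tilde.toOpen T ⊤ y)
    rw [h]
    simp [tilde.isoTop]

theorem isFiniteType_tilde_iff (T : ModuleCat.{u} R) :
    (tilde T).IsFiniteType ↔ Module.Finite R T := by
  refine ⟨fun h => ?_, fun h => ?_⟩
  · have := finite_sections_of_isFiniteType (tilde T) (isAffineOpen_top (Spec R))
    exact Module.Finite.of_surjective (ofTopₛₗ T)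
      (ConcreteCategory.bijective_of_isIso (tilde.isoTop T).inv).2
  · exact isFiniteType_of_finite_sections _ (fun _ : PUnit => ⊤)
      (IsOpenCover.mk (iSup_const (ι := PUnit))) (fun _ => isAffineOpen_top _) fun _ =>
      Module.Finite.of_surjective (toTopₛₗ T) (ConcreteCategory.bijective_of_isIso (tilde.toOpen T ⊤)).2

/-- A quasi-coherent module on `Spec R` is a tilde. -/
theorem exists_iso_tilde (N : (Spec R).Modules) [N.IsQuasicoherent] :
    ∃ T : ModuleCat.{u} R, Nonempty (tilde T ≅ N) :=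
  have := (isQuasicoherent_iff_isIso_fromTildeΓ N).mp inferInstance
  ⟨_, ⟨asIso N.fromTildeΓ⟩⟩

/-- A quasi-coherent module on a compact open of `Spec R` extends. -/
theorem exists_iso_restrict_tilde {V : (Spec R).Opens} (hV : IsCompact (V : Set (Spec R)))
    (F : (V : Scheme.{u}).Modules) [F.IsQuasicoherent] :
    ∃ T : ModuleCat.{u} R, Nonempty (F ≅ (tilde T).restrict V.ι) := by
  have : QuasiCompact V.ι := by
    rw [quasiCompact_iff_forall_isAffineOpen]
    intro W hW
    rw [V.ι.isOpenEmbedding.toIsEmbedding.isCompact_iff]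
    have : (V.ι '' (V.ι ⁻¹ᵁ W : Set V)) = (V : Set (Spec R)) ∩ W := by
      ext q
      constructor
      · rintro ⟨x, hx, rfl⟩; exact ⟨x.2, hx⟩
      · rintro ⟨hq, hqW⟩; exact ⟨⟨q, hq⟩, hqW, rfl⟩
    rw [this]
    exact isQuasiSeparated_univ _ _ (Set.subset_univ _) V.2 hV (Set.subset_univ _) W.2 hW.isCompact
  have := QCqs72.isQuasicoherent_pushforward F V.ι
  obtain ⟨T, ⟨e⟩⟩ := exists_iso_tilde ((Scheme.Modules.pushforward V.ι).obj F)
  exact ⟨T, ⟨((Scheme.Modules.restrictFunctor V.ι).mapIso e ≪≫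
    (Scheme.Modules.restrictFunctorAdjCounitIso V.ι).app F).symm⟩⟩

end Groth.Agent.QCRes72
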